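import Cfsg.Agent.H257.Cov.Star
import Cfsg.Agent.H257.Cov.LinCo
import Cfsg.Agent.H257.Cov.CovTop
import Cfsg.Agent.H149.Sp.Conway
import Cfsg.Agent.LThreeMB.CoOneFin
import Cfsg.Agent.LThreeMB.NegRoot
import Cfsg.Agent.MFive.JTwo
import Cfsg.Agent.H410.TwoCo1
import Cfsg.Agent.H836.Main
import Cfsg.Agent.H19.Cyc.M24OrdB
import Cfsg.Agent.S1694
import Cfsg.Agent.S1619
import Cfsg.Agent.H412.PslCase

/-!
# S2499 (normal 2-coverings): `Co1`

The element of order 23 is incompatible with the orders 33, 35, 39; no proper subgroup has elements of the three orders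
33, 35, 39.
-/

set_option autoImplicit false

namespace Cfsg.Agent.H257.Cov.Row

open Subgroup Cfsg Cfsg.Agent.OrdDiv Cfsg.Agent.H278.Cov Cfsg.Agent.H257.El Cfsg.Agent.H257.Cov
open Cfsg.Agent.H149.Sp
open Cfsg.Agent.H163.PG (Adj)
open Cfsg.Spor (Co1)
open Cfsg.Agent.LThreeMB (fr XX Zx)
open Cfsg.Agent.H257.Cov.CovTop

universe u

theorem card_Co1 : Nat.card Co1 = 4157776806543360000 := NotCT.Orders.co1 ⟨MulEquiv.refl _⟩

/-- the factorisation of `|Co1|` -/
abbrev lC1 : List (ℕ × ℕ) := [(2, 21), (3, 9), (5, 4), (7, 2), (11, 1), (13, 1), (23, 1)]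

theorem orderOf_pow_div {G : Type*} [Group G] {z : G} {a b : ℕ} (hz : orderOf z = a * b) (hb : b ≠ 0) :
    orderOf (z ^ b) = a := by
  rw [orderOf_pow_of_dvd hb (by rw [hz]; exact dvd_mul_left _ _), hz, Nat.mul_div_cancel _ (Nat.pos_of_ne_zero hb)]

theorem no_pq_co1 {p q : ℕ} (hp : P5 p) (hq : P5 q) (hpq : p < q) (h57 : ¬ (p = 5 ∧ q = 7)) (z : Co1) :
    orderOf z ≠ p * q := by
  intro hz
  have h1 : orderOf (z ^ q) = p := orderOf_pow_div hz hq.prime.ne_zero
  have h2 : orderOf (z ^ p) = q := orderOf_pow_div (by rw [hz, mul_comm]) hp.prime.ne_zero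
  exact co1_not_comm hp hq hpq h57 h1 h2 (by rw [← pow_add, ← pow_add, add_comm])

theorem no_qp_co1 {p q : ℕ} (hp : P5 p) (hq : P5 q) (hpq : p < q) (h57 : ¬ (p = 5 ∧ q = 7)) (z : Co1) :
    orderOf z ≠ q * p := by
  rw [mul_comm]
  exact no_pq_co1 hp hq hpq h57 z

/-- subgroups of `Co0` fixing a vector have no elements of order 33 and 35 -/
theorem no_33_35_of_emb {G : Type*} [Group G] (f : G →* Co0) (hf : Function.Injective f) {v : leechLattice} (hv : v ≠ 0)
    (hfix : ∀ g, f g • v = v) (z : G) : orderOf z ≠ 33 ∧ orderOf z ≠ 35 := by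
  refine ⟨fun hz => ?_, fun hz => not_adj_57 f hf hv hfix ⟨z, hz⟩⟩
  have h1 : orderOf (z ^ 3) = 11 := orderOf_pow_div hz (by norm_num)
  have h2 : orderOf (z ^ 11) = 3 := orderOf_pow_div hz (by norm_num)
  refine LinCo.no_33 hv (hfix (z ^ 11)) (a := f (z ^ 3)) ?_ ?_ ?_
  · rw [orderOf_injective f hf, h1]
  · rw [orderOf_injective f hf, h2]
  · rw [← map_mul, ← map_mul, ← pow_add, ← pow_add]

theorem no_co2 {X : Type*} [Group X] (h : Spor.IsoCo2 X) (z : X) : orderOf z ≠ 33 ∧ orderOf z ≠ 35 := by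
  obtain ⟨e⟩ := h
  exact no_33_35_of_emb ((Subgroup.inclusion (inf_le_left : Spor.Co2 ≤ Co0)).comp e.toMonoidHom)
    ((Subgroup.inclusion_injective (inf_le_left : Spor.Co2 ≤ Co0)).comp e.injective) leechU_ne (fun g => (e g).2.2) z

theorem no_co3 {X : Type*} [Group X] (h : Spor.IsoCo3 X) (z : X) : orderOf z ≠ 33 ∧ orderOf z ≠ 35 := by
  obtain ⟨e⟩ := h
  exact no_33_35_of_emb ((Subgroup.inclusion (inf_le_left : Spor.Co3 ≤ Co0)).comp e.toMonoidHom)
    ((Subgroup.inclusion_injective (inf_le_left : Spor.Co3 ≤ Co0)).comp e.injective) leechV_ne (fun g => (e g).2.2) z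

theorem no_m24 {X : Type*} [Group X] (h : Spor.IsoM24 X) (z : X) : orderOf z ≠ 33 ∧ orderOf z ≠ 35 := by
  obtain ⟨e⟩ := h
  have h1 := H19.Cyc.m24_orders (e z)
  rw [MulEquiv.orderOf_eq] at h1
  simp only [List.mem_cons, List.not_mem_nil, or_false] at h1
  omega

theorem no_m23 {X : Type*} [Group X] (h : Spor.IsoM23 X) (z : X) : orderOf z ≠ 33 ∧ orderOf z ≠ 35 := by
  obtain ⟨e⟩ := h
  have h1 := H19.Cyc.m24_orders ⟨(e z).1, (e z).2.1⟩
  rw [Subgroup.orderOf_mk, Subgroup.orderOf_coe, MulEquiv.orderOf_eq] at h1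
  simp only [List.mem_cons, List.not_mem_nil, or_false] at h1
  omega

/-! ### the elements of order 3 and 5 without fixed points -/

theorem fin_co1 : Finite Co1 := Nat.finite_of_card_ne_zero (by rw [card_Co1]; norm_num)

theorem card_cent_XX {G : Type*} [Group G] [Finite G] (x : G) :
    Nat.card ↥(centralizer ({x} : Set G)) = Nat.card (XX x) * orderOf x := by
  rw [Subgroup.card_eq_card_quotient_mul_card_subgroup (Zx x)]
  congr 1
  rw [Zx, Nat.card_zpowers, LThreeMB.self, Subgroup.orderOf_mk]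

/-- an element of order `p q` from the centralizer of an element of order `p` -/
theorem exists_of_cent {G : Type*} [Group G] [Finite G] {p q : ℕ} (hp : p.Prime) (hq : q.Prime) (hpq : p ≠ q) {x : G}
    (hx : orderOf x = p) (hd : q ∣ Nat.card ↥(centralizer ({x} : Set G))) : ∃ z : G, orderOf z = p * q := by
  have : Fact q.Prime := ⟨hq⟩
  obtain ⟨y, hy⟩ := exists_prime_orderOf_dvd_card' q hd
  exact ⟨x * y, orderOf_mul_of_comm hp hq hpq hx (by rw [Subgroup.orderOf_coe, hy])
    (mem_centralizer_singleton_iff.1 y.2).symm⟩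

theorem card_suz {s : Co1} (hs : orderOf s = 3) (h : fr s = 1) :
    Nat.card ↥(centralizer ({s} : Set Co1)) = 448345497600 * 3 := by
  have := fin_co1
  obtain ⟨e⟩ := LThreeMB.CoOneFin.coOne.suz s hs h
  rw [card_cent_XX, hs, Nat.card_congr e.toEquiv, Cfsg.Agent.S1694.result.2]

theorem exists_three : ∃ s : Co1, orderOf s = 3 ∧ fr s = 1 :=
  ⟨_, LThreeMB.NegRoot.order_one, LThreeMB.NegRoot.fr_one⟩

theorem exists_33 : ∃ z : Co1, orderOf z = 33 := by
  have := fin_co1
  obtain ⟨s, hs, h⟩ := exists_three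
  exact exists_of_cent (p := 3) (q := 11) (by norm_num) (by norm_num) (by norm_num) hs (by rw [card_suz hs h]; norm_num)

theorem exists_39 : ∃ z : Co1, orderOf z = 39 := by
  have := fin_co1
  obtain ⟨s, hs, h⟩ := exists_three
  exact exists_of_cent (p := 3) (q := 13) (by norm_num) (by norm_num) (by norm_num) hs (by rw [card_suz hs h]; norm_num)

theorem exists_35 : ∃ z : Co1, orderOf z = 35 := by
  have := fin_co1
  have hs : orderOf (QuotientGroup.mk CoFive.Class.r0 : Co1) = 5 :=
    orderOf_mk (by norm_num) (by norm_num) CoFive.Class.order_r0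
  obtain ⟨e⟩ := MFive.JTwo.isoJ2 hs CoFive.Ranks.fr_r0
  refine exists_of_cent (p := 5) (q := 7) (by norm_num) (by norm_num) (by norm_num) hs ?_
  rw [card_cent_XX, hs, Nat.card_congr e.toEquiv, Cfsg.Agent.S1619.result.2.2.2]
  norm_num

theorem no_suz {X : Type*} [Group X] (h : Spor.IsoSuz X) (z : X) : orderOf z ≠ 35 := by
  intro hz
  have := fin_co1
  obtain ⟨s, hs, hfr⟩ := exists_three
  obtain ⟨e⟩ := LThreeMB.CoOneFin.coOne.suz s hs hfr
  obtain ⟨f⟩ := h
  obtain ⟨y, hy⟩ := QuotientGroup.mk'_surjective (Zx s) (e.symm (f z))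
  have h1 : orderOf (QuotientGroup.mk' (Zx s) y) = 35 := by
    rw [hy, MulEquiv.orderOf_eq, MulEquiv.orderOf_eq, hz]
  obtain ⟨j, hj⟩ := exists_lift (QuotientGroup.mk' (Zx s)) h1
  have h2 : orderOf ((y ^ j : ↥(centralizer ({s} : Set Co1))) : Co1) = 35 := by rw [Subgroup.orderOf_coe, hj]
  have h3 : s * ((y ^ j : ↥(centralizer ({s} : Set Co1))) : Co1) = ((y ^ j : ↥(centralizer ({s} : Set Co1))) : Co1) * s :=
    (mem_centralizer_singleton_iff.1 (y ^ j).2).symm
  have h4 : Commute s ((y ^ j : ↥(centralizer ({s} : Set Co1))) : Co1) := h3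
  refine LinCo.no_105 (s * ((y ^ j : ↥(centralizer ({s} : Set Co1))) : Co1)) ?_
  rw [h4.orderOf_mul_eq_mul_orderOf_of_coprime (by rw [hs, h2]; norm_num), hs, h2]

theorem no_fi22 {X : Type*} [Group X] (h : Spor.IsoFi22 X) (z : X) : orderOf z ≠ 35 := by
  intro hz
  obtain ⟨e⟩ := h
  have I := H836.inv_of_iso e
  have hfin := I.ctx.finite
  have h1 : orderOf (z ^ 5) = 7 := orderOf_pow_div (a := 7) (b := 5) hz (by norm_num)
  have h2 := I.card_seven (y := z ^ 5) (by rw [← h1, pow_orderOf_eq_one]) (by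
    intro h3
    rw [h3, orderOf_one] at h1
    omega)
  have h3 : z ∈ centralizer ({z ^ 5} : Set X) := by
    rw [mem_centralizer_singleton_iff, ← pow_succ, ← pow_succ']
  have h4 := Subgroup.orderOf_dvd_natCard _ h3
  rw [h2, hz] at h4
  exact absurd h4 (by norm_num)

theorem no_psl23 {X : Type*} [Group X] (h : ∃ (F : Type) (_ : Field F) (_ : Fintype F), Fintype.card F = 23 ∧
      Nonempty (X ≃* Matrix.ProjectiveSpecialLinearGroup (Fin 2) F)) (z : X) : orderOf z ≠ 33 := by
  obtain ⟨F, _, _, hF, ⟨e⟩⟩ := h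
  classical
  have h23 : Fact (Nat.Prime 23) := ⟨by norm_num⟩
  have hch : CharP F 23 := charP_of_card_eq_prime hF
  have h2 : (2 : F) ≠ 0 := by
    intro h
    have h1 : (23 : ℕ) ∣ 2 := (CharP.cast_eq_zero_iff F 23 2).1 (by exact_mod_cast h)
    exact absurd h1 (by norm_num)
  have h3 := Cfsg.Agent.H412.PslCase.orders_odd h2 23 (e z)
  rw [MulEquiv.orderOf_eq, hF] at h3
  intro hz
  rw [hz] at h3
  revert h3
  norm_num

/-- no proper subgroup of `Co1` has elements of orders 33, 35, 39 -/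
theorem co1_kill (tab : OrderTable.{0}) (known : Known.{0}) {R : Subgroup Co1} (hR : R ≠ ⊤) {x y w : Co1} (hx : x ∈ R)
    (hy : y ∈ R) (hw : w ∈ R) (hx33 : orderOf x = 33) (hy35 : orderOf y = 35) (hw39 : orderOf w = 39) : False := by
  have hfin := fin_co1
  have dvR : ∀ {z : Co1} {k m : ℕ}, z ∈ R → orderOf z = k → m ∣ k → m ∣ Nat.card R := by
    intro z k m hz hk hm
    refine hm.trans ?_
    rw [← hk]
    exact Subgroup.orderOf_dvd_natCard R hz
  have h13 : 13 ∣ Nat.card R := dvR hw hw39 (by norm_num)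
  have h11 : 11 ∣ Nat.card R := dvR hx hx33 (by norm_num)
  have h7 : 7 ∣ Nat.card R := dvR hy hy35 (by norm_num)
  have h5 : 5 ∣ Nat.card R := dvR hy hy35 (by norm_num)
  have hss : ∀ s ∈ [7, 11], s.Prime ∧ ∀ z : Co1, orderOf z ≠ 13 * s := by
    intro s hs
    simp only [List.mem_cons, List.not_mem_nil, or_false] at hs
    rcases hs with rfl | rfl
    · exact ⟨by norm_num, no_qp_co1 p7 p13 (by norm_num) (by norm_num)⟩
    · exact ⟨by norm_num, no_qp_co1 p11 p13 (by norm_num) (by norm_num)⟩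
  obtain ⟨S, O, hO, N, h, hcO, hcN, hna, g, hg, hreal, hgc⟩ := exists_surv_ex tab known (l := lC1) (r := 13) [7, 11]
    card_Co1 (by norm_num) hss (by decide +kernel) hR h13 (by simpa using ⟨h7, h11⟩)
  have hNn := h.normal
  have hRn : Nat.card R ∣ 4157776806543360000 := by rw [← card_Co1]; exact R.card_subgroup_dvd_card
  have hmul : Nat.card O * (Nat.card N * N.index) ∣ 4157776806543360000 := by
    rw [Subgroup.card_mul_index, mul_comm, ← Subgroup.card_eq_card_quotient_mul_card_subgroup]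
    exact hRn
  have h7O : ¬ 7 ∣ Nat.card O := hcO 7 (by simp)
  have h7i : ¬ 7 ∣ N.index := hcN 7 (by simp)
  have hnum : ((surv 4157776806543360000 lC1 13 [7, 11]).all fun g => (ordN g % 25 == 0) &&
      (ordN g % 243 == 0)) = true := by decide +kernel
  rw [List.all_eq_true] at hnum
  have h1 := hnum g hg
  rw [← hgc, Bool.and_eq_true, beq_iff_eq, beq_iff_eq] at h1
  have hN25 : 5 ^ 2 ∣ Nat.card N := Nat.dvd_of_mod_eq_zero h1.1
  have hN243 : 3 ^ 5 ∣ Nat.card N := Nat.dvd_of_mod_eq_zero h1.2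
  have hON : Nat.card O * Nat.card N ∣ 4157776806543360000 := (mul_dvd_mul_left _ (dvd_mul_right _ _)).trans hmul
  have no65 : ∀ z : R, orderOf z ≠ 13 * 5 := SitP.noR (no_qp_co1 p5 p13 (by norm_num) (by norm_num))
  have h5b : ∀ b, 5 ^ b ∣ Nat.card O → b ≤ 2 := by
    intro b hb
    by_contra hc
    have h2 : 5 ^ 5 ∣ 4157776806543360000 :=
      ((pow_dvd_pow 5 (by omega : 5 ≤ b + 2)).trans (by rw [pow_add]; exact mul_dvd_mul hb hN25)).trans hON
    norm_num at h2
  have h3b : ∀ b, 3 ^ b ∣ Nat.card O → b ≤ 4 := by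
    intro b hb
    by_contra hc
    have h2 : 3 ^ 10 ∣ 4157776806543360000 :=
      ((pow_dvd_pow 3 (by omega : 10 ≤ b + 5)).trans (by rw [pow_add]; exact mul_dvd_mul hb hN243)).trans hON
    norm_num at h2
  have h5O : ¬ 5 ∣ Nat.card O := by
    intro h5O
    have h5' : Fact (Nat.Prime 5) := ⟨Nat.prime_five⟩
    obtain ⟨P⟩ : Nonempty (Sylow 5 O) := inferInstance
    obtain ⟨u, hu, huP⟩ := exists_normalizer (r := 13) (hr := ⟨by norm_num⟩) h13 O h.core P
    set Q : Subgroup R := (P : Subgroup O).map O.subtype with hQ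
    have hQp : IsPGroup 5 Q := P.isPGroup'.map _
    have hQc : Nat.card Q = Nat.card P := by
      rw [hQ, Subgroup.card_map_of_injective O.subtype_injective]
    have hQO : Nat.card Q ∣ Nat.card O := by
      rw [hQc]
      exact Subgroup.card_subgroup_dvd_card _
    have h5Q : 5 ∣ Nat.card Q := by
      rw [hQc]
      exact P.dvd_card_of_dvd_card h5O
    have hcent := centralizes (by norm_num : Nat.Prime 13) Nat.prime_five hu hQp huP (fun a b hab hd => by
      have hb := h5b b (hd.trans hQO)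
      interval_cases b <;> interval_cases a <;> norm_num)
    obtain ⟨⟨v, hvQ⟩, hv⟩ := exists_prime_orderOf_dvd_card' (G := Q) 5 h5Q
    rw [Subgroup.orderOf_mk] at hv
    exact no65 (u * v) (orderOf_mul_of_comm (by norm_num) Nat.prime_five (by norm_num) hu hv (hcent v hvQ))
  have h5i : ¬ 5 ∣ N.index := h.not_dvd_index Nat.prime_five (by norm_num) no65 (by norm_num)
  have cop : ∀ {m : ℕ}, ¬ 5 ∣ m → ¬ 7 ∣ m → Nat.Coprime 35 m := fun h5 h7 =>
    Nat.Coprime.mul_left (m := 5) (n := 7) ((Nat.Prime.coprime_iff_not_dvd (by norm_num)).2 h5)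
      ((Nat.Prime.coprime_iff_not_dvd (by norm_num)).2 h7)
  -- the element of order 35 of `N`
  have e35 : ∃ z : N, orderOf z = 35 := by
    have h2 : orderOf (⟨y, hy⟩ : R) = 35 := by rw [Subgroup.orderOf_mk, hy35]
    have h3 : orderOf (QuotientGroup.mk' O ⟨y, hy⟩) = 35 := by
      rw [orderOf_mk_quot O (fun s hs hd => ?_), h2]
      rw [h2] at hd
      have : s = 5 ∨ s = 7 := by
        have h4 : s ∣ 5 * 7 := hd
        rcases (Nat.Prime.dvd_mul hs).1 h4 with h5 | h5
        · exact Or.inl ((Nat.prime_dvd_prime_iff_eq hs (by norm_num)).1 h5)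
        · exact Or.inr ((Nat.prime_dvd_prime_iff_eq hs (by norm_num)).1 h5)
      rcases this with rfl | rfl
      · exact h5O
      · exact h7O
    have h4 := mem_of_coprime_index N (z := QuotientGroup.mk' O ⟨y, hy⟩) (by rw [h3]; exact cop h5i h7i)
    exact ⟨⟨_, h4⟩, by rw [Subgroup.orderOf_mk, h3]⟩
  -- three divides the core: impossible
  have h3O : ¬ 3 ∣ Nat.card O := by
    intro h3O
    obtain ⟨u, v, hu, hv, huv⟩ := exists_commP h (q := 7) (s := 3) (by norm_num) (by norm_num) h7 h7O h3O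
      (fun a b hab hd => by
        have hb := h3b b hd
        interval_cases b <;> interval_cases a <;> norm_num) e35
    have huv' : Commute v u := huv
    refine LinCo.no_105 ((v * u : R) : Co1) ?_
    rw [Subgroup.orderOf_coe, huv'.orderOf_mul_eq_mul_orderOf_of_coprime (by rw [hu, hv]; norm_num), hu, hv]
  have hs : surv 4157776806543360000 lC1 13 [7, 11] = [.alt 13, .alt 14, .alt 15, .alt 16, .suz, .fi22] := by
    decide +kernel
  rw [hs] at hg
  obtain ⟨z35, hz35⟩ := e35
  -- `A13`, `A14`, `A15`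
  have alt : ∀ n : ℕ, 7 ≤ n → n < 16 → Nonempty (N ≃* alternatingGroup (Fin n)) → False := by
    rintro n hn7 hn16 ⟨e⟩
    have hi := index_alt h (cent_top h hna) hn7 e
    have h2 : orderOf (⟨w, hw⟩ : R) = 39 := by rw [Subgroup.orderOf_mk, hw39]
    have h3 : orderOf (QuotientGroup.mk' O ⟨w, hw⟩) = 39 := by
      rw [orderOf_mk_quot O (fun s hs hd => ?_), h2]
      rw [h2] at hd
      have : s = 3 ∨ s = 13 := by
        have h4 : s ∣ 3 * 13 := hd
        rcases (Nat.Prime.dvd_mul hs).1 h4 with h5 | h5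
        · exact Or.inl ((Nat.prime_dvd_prime_iff_eq hs (by norm_num)).1 h5)
        · exact Or.inr ((Nat.prime_dvd_prime_iff_eq hs (by norm_num)).1 h5)
      rcases this with rfl | rfl
      · exact h3O
      · exact h.core
    have h4 := mem_of_coprime_index N (z := QuotientGroup.mk' O ⟨w, hw⟩) (by
      rw [h3]
      exact Nat.Coprime.coprime_dvd_right hi (by norm_num))
    apply no_pq (n := n) (p := 3) (q := 13) (by norm_num) (by norm_num) (by norm_num) (by omega)
      ((e ⟨_, h4⟩ : alternatingGroup (Fin n)) : Equiv.Perm (Fin n))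
    rw [Subgroup.orderOf_coe, MulEquiv.orderOf_eq, Subgroup.orderOf_mk, h3]
  simp only [List.mem_cons, List.not_mem_nil, or_false] at hg
  rcases hg with rfl | rfl | rfl | rfl | rfl | rfl
  · exact alt 13 (by norm_num) (by norm_num) hreal
  · exact alt 14 (by norm_num) (by norm_num) hreal
  · exact alt 15 (by norm_num) (by norm_num) hreal
  · obtain ⟨e⟩ := hreal
    obtain ⟨σ, hσ⟩ := alt_of_cycle (n := 16) (m := {11, 5}) (by decide) (by decide) (by decide)
    have h2 : orderOf (e.symm σ) = 5 * 11 := by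
      rw [MulEquiv.orderOf_eq, ← Subgroup.orderOf_coe, ← Equiv.Perm.lcm_cycleType, hσ]
      decide
    have h3 : orderOf ((e.symm σ : N) : R ⧸ O) = 5 * 11 := by rw [Subgroup.orderOf_coe, h2]
    exact Top.noQuot O (SitP.noR (no_pq_co1 p5 p11 (by norm_num) (by norm_num))) _ h3
  · exact no_suz hreal z35 hz35
  · exact no_fi22 hreal z35 hz35

theorem noTwo_co1 (tab : OrderTable.{0}) (known : Known.{0}) {T : Type u} [Group T] (h : Spor.IsoCo1 T) :
    NoTwo T := by
  obtain ⟨e⟩ := h
  refine NoTwo.congr ?_ e.symm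
  have hfin := fin_co1
  have hiso : Isol Co1 23 := isol_of_cent (by norm_num) (fun x hx => H410.TwoCo1.card_cent_23 hx)
  have h33 : OInc Co1 23 33 := oinc_of_chkI tab known (l := lC1) [.psl 2 23, .m23, .m24, .co2, .co3] card_Co1
    (by norm_num) hiso (by decide +kernel) (by
      intro g hg X _ _ hX
      simp only [List.mem_cons, List.not_mem_nil, or_false] at hg
      rcases hg with rfl | rfl | rfl | rfl | rfl
      · exact no_psl23 hX
      · exact fun z => (no_m23 hX z).1
      · exact fun z => (no_m24 hX z).1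
      · exact fun z => (no_co2 hX z).1
      · exact fun z => (no_co3 hX z).1)
  have h35 : OInc Co1 23 35 := oinc_of_chkI tab known (l := lC1) [.m23, .m24, .co2, .co3] card_Co1
    (by norm_num) hiso (by decide +kernel) (by
      intro g hg X _ _ hX
      simp only [List.mem_cons, List.not_mem_nil, or_false] at hg
      rcases hg with rfl | rfl | rfl | rfl
      · exact fun z => (no_m23 hX z).2
      · exact fun z => (no_m24 hX z).2
      · exact fun z => (no_co2 hX z).2
      · exact fun z => (no_co3 hX z).2)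
  have h39 : OInc Co1 23 39 := oinc_of_chkI tab known (l := lC1) [] card_Co1
    (by norm_num) hiso (by decide +kernel) (by simp)
  refine noTwo_of_star_orders (r := 23) (L := [33, 35, 39])
    (exists_of_prime_dvd (by norm_num) (by rw [card_Co1]; norm_num)) ?_ ?_ ?_
  · intro m hm
    simp only [List.mem_cons, List.not_mem_nil, or_false] at hm
    rcases hm with rfl | rfl | rfl
    · exact exists_33
    · exact exists_35
    · exact exists_39
  · intro m hm
    simp only [List.mem_cons, List.not_mem_nil, or_false] at hm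
    rcases hm with rfl | rfl | rfl
    · exact h33
    · exact h35
    · exact h39
  · intro R hR hL
    obtain ⟨x, hx, hx33⟩ := hL 33 (by simp)
    obtain ⟨y, hy, hy35⟩ := hL 35 (by simp)
    obtain ⟨w, hw, hw39⟩ := hL 39 (by simp)
    exact co1_kill tab known hR hx hy hw hx33 hy35 hw39

end Cfsg.Agent.H257.Cov.Row
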