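import Cfsg.Agent.H257.Cov.Star
import Cfsg.Agent.H149.Sp.Small
import Cfsg.Agent.SporadicB.J1.Main

/-!
# S2499 (normal 2-coverings): `J1` (orders 19, 11, 7)
-/

set_option autoImplicit false

namespace Cfsg.Agent.H257.Cov.Row

open Cfsg Cfsg.Agent.OrdDiv Cfsg.Agent.H278.Cov Cfsg.Agent.H257.El Cfsg.Agent.H257.Cov
open Cfsg.Agent.H149.Sp Cfsg.Agent.H163.PG Cfsg.Agent.H393.Iso

universe u

theorem noTwo_j1 (tab : OrderTable.{u}) (known : Known.{u}) {T : Type u} [Group T] [Finite T] (h : Spor.IsoJ1 T) :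
    NoTwo T := by
  have hN := NotCT.Orders.j1 h
  have hsimple : IsSimpleGroup T := by
    obtain ⟨e⟩ := h
    have := Cfsg.Agent.SporadicB.J1.Main.isJ1.1
    exact e.isSimpleGroup
  have n7 : NA 7 T := na_j1_all h (by norm_num)
  have n11 : NA 11 T := na_j1_all h (by norm_num)
  have n19 : NA 19 T := na_j1_all h (by norm_num)
  have h1 : ¬ Adj T 7 11 := Eng.not_adj (r := 7) (s := 11) (a := 3) (M := 2280) (L := [(3, 1), (5, 1), (19, 1)])
    (ks := [2, 5, 10]) (kills := []) (by rw [hN]) (by decide +kernel) (by norm_num) (by simp; norm_num) (by decide)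
    (by decide +kernel) (by decide +kernel) (by decide +kernel) n7 n11 (by simp)
  have h2 : ¬ Adj T 11 19 := Eng.not_adj (r := 11) (s := 19) (a := 3) (M := 840) (L := [(3, 1), (5, 1), (7, 1)])
    (ks := [2, 3, 6, 9, 18]) (kills := []) (by rw [hN]) (by decide +kernel) (by norm_num) (by simp; norm_num)
    (by decide) (by decide +kernel) (by decide +kernel) (by decide +kernel) n11 n19 (by simp)
  have h3 : ¬ Adj T 7 19 := Eng.not_adj (r := 7) (s := 19) (a := 3) (M := 1320) (L := [(3, 1), (5, 1), (11, 1)])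
    (ks := [2, 3, 6, 9, 18]) (kills := []) (by rw [hN]) (by decide +kernel) (by norm_num) (by simp; norm_num)
    (by decide) (by decide +kernel) (by decide +kernel) (by decide +kernel) n7 n19 (by simp)
  have p7 : Nat.Prime 7 := by norm_num
  have p11 : Nat.Prime 11 := by norm_num
  have p19 : Nat.Prime 19 := by norm_num
  refine noTwo_of_orders (a := 19) (b := 11) (c := 7) (exists_of_prime_dvd p19 (by rw [hN]; norm_num))
    (exists_of_prime_dvd p11 (by rw [hN]; norm_num)) (exists_of_prime_dvd p7 (by rw [hN]; norm_num)) ?_ ?_ ?_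
  · exact oinc_of_primes tab known (l := [(2, 3), (3, 1), (5, 1), (7, 1), (11, 1), (19, 1)]) hN p19 p11
      (fun z hz => h2 ⟨z, hz.trans (by norm_num)⟩) (by decide +kernel)
  · exact oinc_of_primes tab known (l := [(2, 3), (3, 1), (5, 1), (7, 1), (11, 1), (19, 1)]) hN p11 p7
      (fun z hz => h1 ⟨z, hz.trans (by norm_num)⟩) (by decide +kernel)
  · exact oinc_of_primes tab known (l := [(2, 3), (3, 1), (5, 1), (7, 1), (11, 1), (19, 1)]) hN p19 p7
      (fun z hz => h3 ⟨z, hz.trans (by norm_num)⟩) (by decide +kernel)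

end Cfsg.Agent.H257.Cov.Row
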