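import Cfsg.Agent.H257.Cov.Star
import Cfsg.Agent.H19.Cyc.MatMo
import Cfsg.Agent.NotCT.Orders

/-!
# S2499 (normal 2-coverings): `M23` (orders 23, 14, 15)
-/

set_option autoImplicit false

namespace Cfsg.Agent.H257.Cov.Row

open Cfsg Cfsg.Agent.OrdDiv Cfsg.Agent.H278.Cov Cfsg.Agent.H257.El Cfsg.Agent.H257.Cov
open Equiv Equiv.Perm
open Cfsg.Agent.H866.InvolType (fx)
open Cfsg.Agent.H180.MEl (Fx mem_Fx fx2 fx3 fx5 fx7 fx11 fx23 fact24)
open Cfsg.Agent.J4Type.CocodeMask
open Cfsg.Agent.SporadicA.GolayPerm (isPerm isAut papp)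
open Cfsg.Agent.H180.KMathieu (orderOf_tab ordOk)

universe u

/-- an invariant set and the fixed points of a permutation whose `p`-th power is trivial on it -/
theorem card_modEq {α : Type*} [DecidableEq α] (σ : Perm α) (Δ : Finset α) {p : ℕ} (hp : p.Prime)
    (hinv : ∀ x ∈ Δ, σ x ∈ Δ) (hσ : ∀ x ∈ Δ, (σ ^ p) x = x) :
    Δ.card % p = (Δ.filter fun x => σ x = x).card % p := by
  classical
  have : Fact p.Prime := ⟨hp⟩
  let f : Function.End {x // x ∈ Δ} := fun x => ⟨σ x.1, hinv x.1 x.2⟩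
  have hf : ∀ (n : ℕ) (x : {x // x ∈ Δ}), ((f ^ n) x).1 = (σ ^ n) x.1 := by
    intro n
    induction n with
    | zero => intro x; rfl
    | succ n ih =>
      intro x
      rw [pow_succ', pow_succ']
      change σ ((f ^ n) x).1 = σ ((σ ^ n) x.1)
      rw [ih]
  have h1 := Equiv.Perm.card_fixedPoints_modEq (f := f) (p := p) (n := 1) (by
    funext x
    apply Subtype.ext
    rw [hf, pow_one]
    exact hσ x.1 x.2)
  rw [Fintype.card_coe] at h1
  have h2 : Fintype.card (Function.fixedPoints f) = (Δ.filter fun x => σ x = x).card := by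
    rw [← Fintype.card_coe]
    refine Fintype.card_congr ⟨fun x => ⟨x.1.1, ?_⟩, fun x => ⟨⟨x.1, (Finset.mem_filter.1 x.2).1⟩, ?_⟩, ?_, ?_⟩
    · rw [Finset.mem_filter]
      exact ⟨x.1.2, congrArg Subtype.val x.2⟩
    · exact Subtype.ext (Finset.mem_filter.1 x.2).2
    · intro x; rfl
    · intro x; rfl
  rw [h2] at h1
  exact h1

theorem filter_le {σ : Perm GolayPt} {Δ : Finset GolayPt} (hn : none ∉ Δ) (hf : σ none = none) :
    (Δ.filter fun x => σ x = x).card + 1 ≤ fx σ := by
  unfold fx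
  rw [← Finset.card_insert_of_notMem (s := Δ.filter fun x => σ x = x) (a := none) (fun h => hn (Finset.mem_filter.1 h).1)]
  apply Finset.card_le_card
  intro x hx
  rw [Finset.mem_filter]
  refine ⟨Finset.mem_univ _, ?_⟩
  rcases Finset.mem_insert.1 hx with rfl | hx
  · exact hf
  · exact (Finset.mem_filter.1 hx).2

theorem pow_none {σ : Perm GolayPt} (hf : σ none = none) (n : ℕ) : (σ ^ n) none = none := by
  induction n with
  | zero => rfl
  | succ n ih => rw [pow_succ, Perm.mul_apply, hf, ih]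

theorem pow_inv {σ : Perm GolayPt} {Δ : Finset GolayPt} (hinv : ∀ x ∈ Δ, σ x ∈ Δ) (n : ℕ) :
    ∀ x ∈ Δ, (σ ^ n) x ∈ Δ := by
  induction n with
  | zero => exact fun x hx => hx
  | succ n ih =>
    intro x hx
    rw [pow_succ, Perm.mul_apply]
    exact ih _ (hinv x hx)

/-- general: `g` of order `a * b` (primes), `Δ` invariant without fixed points -/
theorem four {g : M24} {a b : ℕ} (ha : a.Prime) (hb : b.Prime) (h : orderOf g = a * b) {Δ : Finset GolayPt}
    (hinv : ∀ x ∈ Δ, (g : Perm GolayPt) x ∈ Δ) (h0 : (Δ.filter fun x => (g : Perm GolayPt) x = x).card = 0) :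
    ((Δ.filter fun x => ((g : Perm GolayPt) ^ a) x = x).card % a = 0) ∧
      (Δ.card % b = (Δ.filter fun x => ((g : Perm GolayPt) ^ a) x = x).card % b) := by
  have hg : (g : Perm GolayPt) ^ (a * b) = 1 := by
    rw [← h, ← Subgroup.orderOf_coe, pow_orderOf_eq_one]
  constructor
  · have h1 := card_modEq (g : Perm GolayPt) (Δ.filter fun x => ((g : Perm GolayPt) ^ a) x = x) ha (by
      intro x hx
      rw [Finset.mem_filter] at hx ⊢
      refine ⟨hinv x hx.1, ?_⟩
      rw [← Perm.mul_apply, ← pow_succ, pow_succ', Perm.mul_apply, hx.2]) (fun x hx => (Finset.mem_filter.1 hx).2)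
    rw [h1]
    have h2 : ((Δ.filter fun x => ((g : Perm GolayPt) ^ a) x = x).filter fun x => (g : Perm GolayPt) x = x).card = 0 := by
      apply Nat.le_zero.1
      rw [← h0]
      apply Finset.card_le_card
      intro x hx
      rw [Finset.mem_filter] at hx
      rw [Finset.mem_filter]
      exact ⟨(Finset.mem_filter.1 hx.1).1, hx.2⟩
    rw [h2, Nat.zero_mod]
  · refine card_modEq ((g : Perm GolayPt) ^ a) Δ hb (pow_inv hinv a) ?_
    intro x _
    rw [← pow_mul, hg, Perm.one_apply]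

theorem card_14 {g : M24} (h : orderOf g = 14) (hg : (g : Perm GolayPt) none = none) {Δ : Finset GolayPt}
    (hn : none ∉ Δ) (hinv : ∀ x ∈ Δ, (g : Perm GolayPt) x ∈ Δ) :
    Δ.card % 14 = 0 ∨ Δ.card % 14 = 2 ∨ Δ.card % 14 = 7 ∨ Δ.card % 14 = 9 := by
  have h1 : fx (g : Perm GolayPt) < 2 := by
    by_contra hc
    exact H19.Cyc.no14 g (not_lt.1 hc) h
  have h0 : (Δ.filter fun x => (g : Perm GolayPt) x = x).card = 0 := by
    have := filter_le hn hg
    omega
  have h2 := four (a := 2) (b := 7) (by norm_num) (by norm_num) h hinv h0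
  have h3 := four (a := 7) (b := 2) (by norm_num) (by norm_num) h hinv h0
  have h4 := filter_le hn (pow_none hg 2)
  have h5 := filter_le hn (pow_none hg 7)
  have h6 := H19.Cyc.v2 h (d := 7) (by norm_num) (by norm_num)
  have h7 := H19.Cyc.v7 h (d := 2) (by norm_num) (by norm_num)
  have c1 : (Δ.filter fun x => ((g : Perm GolayPt) ^ 2) x = x).card = 0 ∨
      (Δ.filter fun x => ((g : Perm GolayPt) ^ 2) x = x).card = 2 := by omega
  have c2 : (Δ.filter fun x => ((g : Perm GolayPt) ^ 7) x = x).card = 0 ∨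
      (Δ.filter fun x => ((g : Perm GolayPt) ^ 7) x = x).card = 7 := by omega
  obtain ⟨-, h2⟩ := h2
  obtain ⟨-, h3⟩ := h3
  clear h4 h5 h6 h7 h0 h1
  rcases c1 with c1 | c1 <;> rcases c2 with c2 | c2 <;> rw [c1] at h2 <;> rw [c2] at h3 <;> omega

theorem card_15 {g : M24} (h : orderOf g = 15) (hg : (g : Perm GolayPt) none = none) {Δ : Finset GolayPt}
    (hn : none ∉ Δ) (hinv : ∀ x ∈ Δ, (g : Perm GolayPt) x ∈ Δ) :
    Δ.card % 15 = 0 ∨ Δ.card % 15 = 3 ∨ Δ.card % 15 = 5 ∨ Δ.card % 15 = 8 := by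
  have h1 : fx (g : Perm GolayPt) < 2 := by
    by_contra hc
    exact H19.Cyc.no15 g (not_lt.1 hc) h
  have h0 : (Δ.filter fun x => (g : Perm GolayPt) x = x).card = 0 := by
    have := filter_le hn hg
    omega
  have h2 := four (a := 3) (b := 5) (by norm_num) (by norm_num) h hinv h0
  have h3 := four (a := 5) (b := 3) (by norm_num) (by norm_num) h hinv h0
  have h4 := filter_le hn (pow_none hg 3)
  have h5 := filter_le hn (pow_none hg 5)
  have h6 := H19.Cyc.v3 h (d := 5) (by norm_num) (by norm_num)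
  have h7 := H19.Cyc.v5 h (d := 3) (by norm_num) (by norm_num)
  have c1 : (Δ.filter fun x => ((g : Perm GolayPt) ^ 3) x = x).card = 0 ∨
      (Δ.filter fun x => ((g : Perm GolayPt) ^ 3) x = x).card = 3 := by omega
  have c2 : (Δ.filter fun x => ((g : Perm GolayPt) ^ 5) x = x).card = 0 ∨
      (Δ.filter fun x => ((g : Perm GolayPt) ^ 5) x = x).card = 5 := by omega
  obtain ⟨-, h2⟩ := h2
  obtain ⟨-, h3⟩ := h3
  clear h4 h5 h6 h7 h0 h1
  rcases c1 with c1 | c1 <;> rcases c2 with c2 | c2 <;> rw [c1] at h2 <;> rw [c2] at h3 <;> omega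

theorem card_pt' {Δ : Finset GolayPt} (hn : none ∉ Δ) : Δ.card ≤ 23 := by
  have h1 : (insert none Δ).card ≤ Fintype.card GolayPt := Finset.card_le_univ _
  rw [Finset.card_insert_of_notMem hn, H19.Cyc.card_pt] at h1
  omega

/-- a subgroup of `M23` with elements of order 14 and 15 is transitive -/
theorem m23_trans {R : Subgroup Spor.M23} {x y : Spor.M23} (hx : x ∈ R) (hy : y ∈ R) (hx14 : orderOf x = 14)
    (hy15 : orderOf y = 15) : 23 ∣ Nat.card R := by
  classical
  have hfin : Finite Spor.M23 := Nat.finite_of_card_ne_zero (by rw [NotCT.Orders.m23 ⟨MulEquiv.refl _⟩]; norm_num)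
  have hnone : ∀ z : Spor.M23, (z : Perm GolayPt) none = none := fun z => z.2.2
  let Δ : Finset GolayPt := Finset.univ.filter fun q => ∃ r ∈ R, (r : Perm GolayPt) (some 0) = q
  have hmem : ∀ q, q ∈ Δ ↔ ∃ r ∈ R, (r : Perm GolayPt) (some 0) = q := fun q => by
    simp only [Δ, Finset.mem_filter, Finset.mem_univ, true_and]
  have hn : none ∉ Δ := by
    rw [hmem]
    rintro ⟨r, -, hr⟩
    have h1 := hnone r
    rw [← h1] at hr
    exact absurd ((r : Perm GolayPt).injective hr) (by simp)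
  have hinv : ∀ z ∈ R, ∀ q ∈ Δ, (z : Perm GolayPt) q ∈ Δ := by
    intro z hz q hq
    obtain ⟨r, hr, rfl⟩ := (hmem q).1 hq
    exact (hmem _).2 ⟨z * r, R.mul_mem hz hr, rfl⟩
  have h0 : (some 0 : GolayPt) ∈ Δ := (hmem _).2 ⟨1, R.one_mem, rfl⟩
  have hpos : 0 < Δ.card := Finset.card_pos.2 ⟨_, h0⟩
  have hle := card_pt' hn
  have h1 := card_14 (g := ⟨x.1, x.2.1⟩) (by rw [Subgroup.orderOf_mk, Subgroup.orderOf_coe, hx14]) (hnone x) hn (hinv x hx)
  have h2 := card_15 (g := ⟨y.1, y.2.1⟩) (by rw [Subgroup.orderOf_mk, Subgroup.orderOf_coe, hy15]) (hnone y) hn (hinv y hy)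
  have h23 : Δ.card = 23 := by omega
  have horb : (MulAction.orbit R (some 0 : GolayPt)) = (Δ : Set GolayPt) := by
    ext q
    rw [Finset.mem_coe, hmem, MulAction.mem_orbit_iff]
    constructor
    · rintro ⟨r, hr⟩
      exact ⟨r.1, r.2, hr⟩
    · rintro ⟨r, hr, hq⟩
      exact ⟨⟨r, hr⟩, hq⟩
  have h3 : Nat.card (MulAction.orbit R (some 0 : GolayPt)) = 23 := by
    rw [horb, Nat.card_coe_set_eq, Set.ncard_coe_finset]
    exact h23
  have h4 := Nat.card_congr (MulAction.orbitProdStabilizerEquivGroup R (some 0 : GolayPt))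
  rw [Nat.card_prod] at h4
  exact Dvd.intro _ ((congrArg (· * _) h3.symm).trans h4)

noncomputable def e14 : M24 := mk 972624105726399355048898354068570766 (by decide +kernel)
noncomputable def e15 : M24 := mk 973649056260225833675278779119046983 (by decide +kernel)

theorem o14 : orderOf e14 = 14 := orderOf_tab (isTab_mk _ _) (by decide +kernel)
theorem o15 : orderOf e15 = 15 := orderOf_tab (isTab_mk _ _) (by decide +kernel)

theorem fix_none {P : ℕ} (h : (isPerm P && isAut P) = true) (hP : papp P 23 = 23) :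
    (mk P h : Perm GolayPt) none = none := by
  apply SporadicA.GolayBase.idx_injective
  rw [isTab_mk P h none]
  exact hP

theorem f14 : (e14 : Perm GolayPt) none = none := fix_none _ (by decide +kernel)

theorem f15 : (e15 : Perm GolayPt) none = none := fix_none _ (by decide +kernel)

theorem not_order_m23 {k : ℕ} (hk : k ∉ ([1, 2, 3, 4, 5, 6, 7, 8, 10, 11, 12, 14, 15, 21, 23] : List ℕ))
    (z : Spor.M23) : orderOf z ≠ k := by
  rintro rfl
  have h := H19.Cyc.m24_orders ⟨z.1, z.2.1⟩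
  rw [Subgroup.orderOf_mk, Subgroup.orderOf_coe] at h
  exact hk h

theorem noTwo_m23 (tab : OrderTable.{0}) (known : Known.{0}) {T : Type u} [Group T] (h : Spor.IsoM23 T) :
    NoTwo T := by
  obtain ⟨e⟩ := h
  refine NoTwo.congr ?_ e.symm
  have hN : Nat.card Spor.M23 = 10200960 := NotCT.Orders.m23 ⟨MulEquiv.refl _⟩
  have hfin : Finite Spor.M23 := Nat.finite_of_card_ne_zero (by rw [hN]; norm_num)
  have hiso : Isol Spor.M23 23 := by
    intro p hp _
    refine not_order_m23 ?_
    intro hc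
    have h2 := hp.two_le
    simp only [List.mem_cons, List.not_mem_nil, or_false] at hc
    omega
  have h1 : OInc Spor.M23 23 14 := oinc_of_chkI tab known (l := [(2, 7), (3, 2), (5, 1), (7, 1), (11, 1), (23, 1)]) []
    hN (by norm_num) hiso (by decide +kernel) (by simp)
  have h2 : OInc Spor.M23 23 15 := oinc_of_chkI tab known (l := [(2, 7), (3, 2), (5, 1), (7, 1), (11, 1), (23, 1)]) []
    hN (by norm_num) hiso (by decide +kernel) (by simp)
  refine noTwo_of_orders (a := 23) (b := 14) (c := 15) (exists_of_prime_dvd (by norm_num) (by rw [hN]; norm_num))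
    ⟨⟨e14, e14.2, f14⟩, ?_⟩ ⟨⟨e15, e15.2, f15⟩, ?_⟩ h1 ?_ h2
  · rw [← Subgroup.orderOf_coe]
    change orderOf (e14 : Perm GolayPt) = 14
    rw [Subgroup.orderOf_coe, o14]
  · rw [← Subgroup.orderOf_coe]
    change orderOf (e15 : Perm GolayPt) = 15
    rw [Subgroup.orderOf_coe, o15]
  · intro R hR x hx y hy h14 h15
    have h3 := m23_trans hx hy h14 h15
    obtain ⟨z, hz⟩ := exists_of_prime_dvd (T := R) (by norm_num) h3
    exact h1 R hR z.1 z.2 x hx (by rw [Subgroup.orderOf_coe, hz]) h14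

end Cfsg.Agent.H257.Cov.Row
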