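import Cfsg.Agent.H257.Cov.Star
import Cfsg.Agent.H257.Cov.Trans
import Cfsg.Agent.H257.Cov.Row.M23
import Cfsg.Agent.S0144

/-!
# S2499 (normal 2-coverings): `M24` (orders 23, 21, 10)
-/

set_option autoImplicit false

namespace Cfsg.Agent.H257.Cov.Row

open Cfsg Cfsg.Agent.OrdDiv Cfsg.Agent.H278.Cov Cfsg.Agent.H257.El Cfsg.Agent.H257.Cov
open Equiv Equiv.Perm
open Cfsg.Agent.H866.InvolType (fx)
open Cfsg.Agent.J4Type.CocodeMask
open Cfsg.Agent.SporadicA.GolayPerm (isPerm isAut papp)
open Cfsg.Agent.H180.KMathieu (orderOf_tab ordOk)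
open Cfsg.Agent.H257.Cov.Tr

universe u

theorem card_M24 : Nat.card M24 = 244823040 := NotCT.Orders.m24 ⟨MulEquiv.refl _⟩

/-- `B` normal in a transitive subgroup `R` of order divisible by 35 -/
theorem normal24 {R : Subgroup M24} (htr : ∀ x y : GolayPt, ∃ r ∈ R, (r : Perm GolayPt) x = y) {u v : M24}
    (hu : u ∈ R) (hv : v ∈ R) (hu7 : orderOf u = 7) (hv5 : orderOf v = 5) (B : Subgroup R) [hB : B.Normal]
    (hBb : B ≠ ⊥) : ∃ S : Subgroup M24, 24 * Nat.card S = Nat.card B := by
  let R' : Subgroup (Perm GolayPt) := R.map M24.subtype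
  let A : Subgroup (Perm GolayPt) := (B.map R.subtype).map M24.subtype
  have hcA : Nat.card A = Nat.card B := by
    rw [Subgroup.card_map_of_injective M24.subtype_injective, Subgroup.card_map_of_injective R.subtype_injective]
  have hn : ∀ r ∈ R', ∀ a ∈ A, r * a * r⁻¹ ∈ A := by
    rintro _ ⟨r, hr, rfl⟩ _ ⟨_, ⟨b, hb, rfl⟩, rfl⟩
    refine ⟨_, ⟨_, hB.conj_mem b hb ⟨r, hr⟩, rfl⟩, ?_⟩
    simp
  have htr' : ∀ x y : GolayPt, ∃ r ∈ R', r x = y := by
    intro x y
    obtain ⟨r, hr, h⟩ := htr x y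
    exact ⟨_, ⟨r, hr, rfl⟩, h⟩
  have hd : ∀ x, (orb A x).card = (orb A none).card := fun x => card_orb_of_norm htr' hn x none
  have hd0 : 0 < (orb A none).card := orb_pos A none
  have hdv : (orb A none).card ∣ 24 := by
    rw [← H19.Cyc.card_pt]
    exact Dvd.intro_left _ (card_orbits hd)
  have f7 := fix_ge hd hd0 (w := (u : Perm GolayPt)) (p := 7) (by norm_num)
    (by rw [← hu7, ← Subgroup.orderOf_coe, pow_orderOf_eq_one]) (hn _ ⟨u, hu, rfl⟩)
  have f5 := fix_ge hd hd0 (w := (v : Perm GolayPt)) (p := 5) (by norm_num)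
    (by rw [← hv5, ← Subgroup.orderOf_coe, pow_orderOf_eq_one]) (hn _ ⟨v, hv, rfl⟩)
  have g7 : (Finset.univ.filter fun x => (u : Perm GolayPt) x = x).card = 3 :=
    H180.MEl.fx7 u.2 (by rw [Subgroup.orderOf_coe, hu7])
  have g5 : (Finset.univ.filter fun x => (v : Perm GolayPt) x = x).card = 4 :=
    H180.MEl.fx5 v.2 (by rw [Subgroup.orderOf_coe, hv5])
  have h7 : (24 / (orb A none).card % 7) * ((orb A none).card % 7) ≤ 3 := by
    rw [← g7]
    refine le_trans (le_of_eq ?_) (f7.trans (le_of_eq ?_))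
    · rw [H19.Cyc.card_pt]
    · congr!
  have h5 : (24 / (orb A none).card % 5) * ((orb A none).card % 5) ≤ 4 := by
    rw [← g5]
    refine le_trans (le_of_eq ?_) (f5.trans (le_of_eq ?_))
    · rw [H19.Cyc.card_pt]
    · congr!
  have h24 : (orb A none).card = 24 := by
    have h1 : (orb A none).card ∈ Nat.divisors 24 := Nat.mem_divisors.2 ⟨hdv, by norm_num⟩
    have h2 : (orb A none).card ≠ 1 := by
      intro h2
      apply hBb
      have h3 : A = ⊥ := eq_bot_of_card_orb (fun x => (hd x).trans h2)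
      rw [← Subgroup.card_eq_one, ← hcA, h3, Subgroup.card_bot]
    rw [show Nat.divisors 24 = {1, 2, 3, 4, 6, 8, 12, 24} by decide] at h1
    simp only [Finset.mem_insert, Finset.mem_singleton] at h1
    rcases h1 with h1 | h1 | h1 | h1 | h1 | h1 | h1 | h1
    · exact absurd h1 h2
    all_goals first
      | exact h1
      | (exfalso; rw [h1] at h7; revert h7; decide)
      | (exfalso; rw [h1] at h5; revert h5; decide)
  have h3 := card_orb_mul A none
  rw [h24, hcA] at h3
  refine ⟨((MulAction.stabilizer A (none : GolayPt)).map A.subtype).comap M24.subtype, ?_⟩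
  rw [← h3]
  congr 1
  have h4 : ((MulAction.stabilizer A (none : GolayPt)).map A.subtype) ≤ M24 := by
    rintro _ ⟨a, -, rfl⟩
    obtain ⟨b, -, hb⟩ := a.2
    have : ((A.subtype) a) = (b : Perm GolayPt) := hb.symm
    rw [this]
    exact b.2
  rw [← Subgroup.card_map_of_injective A.subtype_injective]
  exact Nat.card_congr (Subgroup.subgroupOfEquivOfLe h4).toEquiv

theorem not_order_m24 {k : ℕ} (hk : k ∉ ([1, 2, 3, 4, 5, 6, 7, 8, 10, 11, 12, 14, 15, 21, 23] : List ℕ))
    (z : M24) : orderOf z ≠ k := by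
  rintro rfl
  exact hk (H19.Cyc.m24_orders z)

/-- the factorisation of `|M24|` -/
abbrev l24 : List (ℕ × ℕ) := [(2, 10), (3, 3), (5, 1), (7, 1), (11, 1), (23, 1)]

/-- **a transitive proper subgroup of `M24` of order divisible by 35 has order divisible by 11 or 23** -/
theorem no_trans35 (tab : OrderTable.{0}) (known : Known.{0}) {R : Subgroup M24} (hR : R ≠ ⊤)
    (htr : ∀ x y : GolayPt, ∃ r ∈ R, (r : Perm GolayPt) x = y) (h5 : 5 ∣ Nat.card R) (h7 : 7 ∣ Nat.card R)
    (h11 : ¬ 11 ∣ Nat.card R) (h23 : ¬ 23 ∣ Nat.card R) : False := by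
  have hfin : Finite M24 := Nat.finite_of_card_ne_zero (by rw [card_M24]; norm_num)
  obtain ⟨u', hu'⟩ := exists_of_prime_dvd (T := R) (by norm_num) h7
  obtain ⟨v', hv'⟩ := exists_of_prime_dvd (T := R) (by norm_num) h5
  have key := fun (B : Subgroup R) (hB : B.Normal) (hBb : B ≠ ⊥) => normal24 htr u'.2 v'.2
    (by rw [Subgroup.orderOf_coe, hu']) (by rw [Subgroup.orderOf_coe, hv']) B hBb
  have h35 : ∀ s ∈ [5], s.Prime ∧ ∀ z : M24, orderOf z ≠ 7 * s := by
    intro s hs
    rw [List.mem_singleton] at hs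
    subst hs
    exact ⟨by norm_num, not_order_m24 (by decide)⟩
  obtain ⟨S, O, hO, N, h, hcO, hcN, hna, g, hg, -, hgc⟩ := exists_surv_ex tab known (l := l24) (r := 7) [5]
    card_M24 (by norm_num) h35 (by decide +kernel) hR h7 (by simpa using h5)
  -- the core is trivial
  have hOb : O = ⊥ := by
    have hd : Nat.card O ∣ 2 ^ 10 * 3 ^ 3 := by
      have h1 : Nat.card O ∣ (2 ^ 10 * 3 ^ 3) * (5 * 7 * 11 * 23) := by
        have := (O.card_subgroup_dvd_card).trans ((Subgroup.card_subgroup_dvd_card R))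
        rw [card_M24] at this
        exact this
      have n5 : ¬ 5 ∣ Nat.card O := hcO 5 (by simp)
      have n7 : ¬ 7 ∣ Nat.card O := h.core
      have n11 : ¬ 11 ∣ Nat.card O := fun hd => h11 (hd.trans O.card_subgroup_dvd_card)
      have n23 : ¬ 23 ∣ Nat.card O := fun hd => h23 (hd.trans O.card_subgroup_dvd_card)
      refine Nat.Coprime.dvd_of_dvd_mul_right ?_ h1
      refine Nat.Coprime.mul_right (Nat.Coprime.mul_right (Nat.Coprime.mul_right ?_ ?_) ?_) ?_
      · exact ((Nat.Prime.coprime_iff_not_dvd (by norm_num)).2 n5).symm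
      · exact ((Nat.Prime.coprime_iff_not_dvd (by norm_num)).2 n7).symm
      · exact ((Nat.Prime.coprime_iff_not_dvd (by norm_num)).2 n11).symm
      · exact ((Nat.Prime.coprime_iff_not_dvd (by norm_num)).2 n23).symm
    obtain ⟨y, z, hy, hz, hyz⟩ := (Nat.dvd_mul).1 hd
    obtain ⟨a, -, rfl⟩ := (Nat.dvd_prime_pow Nat.prime_two).1 hy
    obtain ⟨b, -, rfl⟩ := (Nat.dvd_prime_pow Nat.prime_three).1 hz
    have hsol : Group.IsSolvable O := S0144.result 2 3 a b Nat.prime_two Nat.prime_three hyz.symm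
    refine no_solvable (p := 2) (q := 3) Nat.prime_two Nat.prime_three (by norm_num) (fun B hB hBb => ?_) O
    obtain ⟨S', hS'⟩ := key B hB hBb
    rw [← hS']
    exact ⟨(by norm_num : (2 : ℕ) ∣ 24).mul_right _, (by norm_num : (3 : ℕ) ∣ 24).mul_right _⟩
  subst hOb
  -- the simple normal subgroup
  have hNn := h.normal
  let B : Subgroup R := N.comap (QuotientGroup.mk' ⊥)
  have hBc : Nat.card B = Nat.card N := by
    have h1 := Subgroup.index_comap_of_surjective N (QuotientGroup.mk'_surjective (⊥ : Subgroup R))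
    have h2 := B.card_mul_index
    have h3 := N.card_mul_index
    have h4 : Nat.card (R ⧸ (⊥ : Subgroup R)) = Nat.card R := by
      have := Subgroup.card_eq_card_quotient_mul_card_subgroup (⊥ : Subgroup R)
      rw [Subgroup.card_bot, mul_one] at this
      exact this.symm
    rw [h4, ← h1] at h3
    have h5 : 0 < B.index := Nat.pos_of_ne_zero Subgroup.index_ne_zero_of_finite
    exact Nat.eq_of_mul_eq_mul_right h5 (h2.trans h3.symm)
  have hBb : B ≠ ⊥ := by
    intro hb
    have h1 := h.dvd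
    rw [← hBc, hb, Subgroup.card_bot] at h1
    exact absurd h1 (by norm_num)
  obtain ⟨U, hU⟩ := key B inferInstance hBb
  have hnum : ((surv 244823040 l24 7 [5]).all fun g => (ordN g % 11 == 0) || (decide (ordN g ≤ 20160) &&
      decide (2520 ≤ ordN g) && (ordN g % 5 == 0) && (ordN g % 7 == 0))) = true := by decide +kernel
  rw [List.all_eq_true] at hnum
  have h1 := hnum g hg
  rw [← hgc] at h1
  simp only [Bool.or_eq_true, Bool.and_eq_true, decide_eq_true_eq, beq_iff_eq] at h1
  rcases h1 with h1 | ⟨⟨⟨h1, -⟩, h2⟩, h3⟩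
  · apply h11
    refine (Nat.dvd_of_mod_eq_zero h1).trans ?_
    rw [← hBc]
    exact B.card_subgroup_dvd_card
  · have hU5 : 5 ∣ Nat.card U := by
      have h4 : 5 ∣ 24 * Nat.card U := by
        rw [hU, hBc]
        exact Nat.dvd_of_mod_eq_zero h2
      exact Nat.Coprime.dvd_of_dvd_mul_left (by norm_num) h4
    have hU7 : 7 ∣ Nat.card U := by
      have h4 : 7 ∣ 24 * Nat.card U := by
        rw [hU, hBc]
        exact Nat.dvd_of_mod_eq_zero h3
      exact Nat.Coprime.dvd_of_dvd_mul_left (by norm_num) h4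
    have hUle : Nat.card U ≤ 840 := by
      have h4 : 24 * Nat.card U ≤ 20160 := by rw [hU, hBc]; exact h1
      omega
    have hUt : U ≠ ⊤ := by
      rintro rfl
      rw [Subgroup.card_top, card_M24] at hUle
      omega
    obtain ⟨S2, O2, hO2, N2, t2, -, -, -, g2, hg2, -, hgc2⟩ := exists_surv_ex tab known (l := l24) (r := 7) [5]
      card_M24 (by norm_num) h35 (by decide +kernel) hUt hU7 (by simpa using hU5)
    have hnum2 : ((surv 244823040 l24 7 [5]).all fun g => decide (2520 ≤ ordN g)) = true := by decide +kernel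
    rw [List.all_eq_true] at hnum2
    have h4 := hnum2 g2 hg2
    rw [decide_eq_true_eq, ← hgc2] at h4
    have h5 : Nat.card N2 ∣ Nat.card U :=
      (N2.card_subgroup_dvd_card).trans (Subgroup.card_quotient_dvd_card O2)
    have h6 := Nat.le_of_dvd Nat.card_pos h5
    omega

/-! ### elements of order 21 and 10 -/

theorem fx_21 {g : M24} (h : orderOf g = 21) : fx ((g : Perm GolayPt) ^ 7) = 0 := by
  obtain ⟨c, c1, hc, -⟩ := H19.Cyc.base g h
  have e1 := hc 1
  have e2 := hc 7
  have e3 := hc 3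
  have w2 := H19.Cyc.v3 h (d := 7) (by norm_num) (by norm_num)
  have w3 := H19.Cyc.v7 h (d := 3) (by norm_num) (by norm_num)
  rw [show Nat.divisors 21 = {1, 3, 7, 21} by decide] at e1 e2 e3
  simp +decide only [Finset.sum_insert, Finset.sum_singleton, Finset.mem_insert, Finset.mem_singleton, if_true, if_false,
    c1] at e1 e2 e3
  rw [pow_one] at e1
  omega

theorem fx_10 {g : M24} (h : orderOf g = 10) : fx ((g : Perm GolayPt) ^ 5) = 0 := by
  obtain ⟨c, c1, hc, -⟩ := H19.Cyc.base g h
  have e1 := hc 1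
  have e2 := hc 5
  have e3 := hc 2
  have w2 := H19.Cyc.v2 h (d := 5) (by norm_num) (by norm_num)
  have w3 := H19.Cyc.v5 h (d := 2) (by norm_num) (by norm_num)
  rw [show Nat.divisors 10 = {1, 2, 5, 10} by decide] at e1 e2 e3
  simp +decide only [Finset.sum_insert, Finset.sum_singleton, Finset.mem_insert, Finset.mem_singleton, if_true, if_false,
    c1] at e1 e2 e3
  rw [pow_one] at e1
  omega

theorem pow_inv' {σ : Perm GolayPt} {Δ : Finset GolayPt} (hinv : ∀ x ∈ Δ, σ x ∈ Δ) (n : ℕ) :
    ∀ x ∈ Δ, (σ ^ n) x ∈ Δ := pow_inv hinv n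

theorem filter_le' (σ : Perm GolayPt) (Δ : Finset GolayPt) : (Δ.filter fun x => σ x = x).card ≤ fx σ :=
  Finset.card_le_card (Finset.filter_subset_filter _ (Finset.subset_univ _))

theorem card_21 {g : M24} (h : orderOf g = 21) {Δ : Finset GolayPt}
    (hinv : ∀ x ∈ Δ, (g : Perm GolayPt) x ∈ Δ) : Δ.card % 3 = 0 ∧ (Δ.card % 7 = 0 ∨ Δ.card % 7 = 3) := by
  have h7 := filter_le' ((g : Perm GolayPt) ^ 7) Δ
  rw [fx_21 h] at h7
  have h1 : (Δ.filter fun x => (g : Perm GolayPt) x = x).card = 0 := by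
    apply Nat.le_zero.1
    refine le_trans (Finset.card_le_card ?_) h7
    intro x hx
    rw [Finset.mem_filter] at hx ⊢
    refine ⟨hx.1, ?_⟩
    have : ∀ n : ℕ, ((g : Perm GolayPt) ^ n) x = x := by
      intro n
      induction n with
      | zero => rfl
      | succ n ih => rw [pow_succ, Perm.mul_apply, hx.2, ih]
    exact this 7
  have h2 := four (a := 3) (b := 7) (by norm_num) (by norm_num) h hinv h1
  have h3 := four (a := 7) (b := 3) (by norm_num) (by norm_num) h hinv h1
  have h4 := filter_le' ((g : Perm GolayPt) ^ 3) Δ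
  have h5 := H19.Cyc.v7 h (d := 3) (by norm_num) (by norm_num)
  rw [h5] at h4
  have h6 : (Δ.filter fun x => ((g : Perm GolayPt) ^ 7) x = x).card = 0 := Nat.le_zero.1 h7
  rw [h6] at h3
  refine ⟨by omega, ?_⟩
  have h8 : (Δ.filter fun x => ((g : Perm GolayPt) ^ 3) x = x).card = 0 ∨
      (Δ.filter fun x => ((g : Perm GolayPt) ^ 3) x = x).card = 3 := by omega
  rcases h8 with h8 | h8 <;> rw [h8] at h2 <;> omega

theorem card_10 {g : M24} (h : orderOf g = 10) {Δ : Finset GolayPt}
    (hinv : ∀ x ∈ Δ, (g : Perm GolayPt) x ∈ Δ) : Δ.card % 2 = 0 := by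
  have h7 := filter_le' ((g : Perm GolayPt) ^ 5) Δ
  rw [fx_10 h] at h7
  have h1 : (Δ.filter fun x => (g : Perm GolayPt) x = x).card = 0 := by
    apply Nat.le_zero.1
    refine le_trans (Finset.card_le_card ?_) h7
    intro x hx
    rw [Finset.mem_filter] at hx ⊢
    refine ⟨hx.1, ?_⟩
    have : ∀ n : ℕ, ((g : Perm GolayPt) ^ n) x = x := by
      intro n
      induction n with
      | zero => rfl
      | succ n ih => rw [pow_succ, Perm.mul_apply, hx.2, ih]
    exact this 5
  have h3 := four (a := 5) (b := 2) (by norm_num) (by norm_num) h hinv h1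
  rw [Nat.le_zero.1 h7] at h3
  omega

/-- a subgroup of `M24` with elements of order 21 and 10 is transitive -/
theorem m24_trans {R : Subgroup M24} {x y : M24} (hx : x ∈ R) (hy : y ∈ R) (hx21 : orderOf x = 21)
    (hy10 : orderOf y = 10) (p q : GolayPt) : ∃ r ∈ R, (r : Perm GolayPt) p = q := by
  classical
  let Δ : Finset GolayPt := Finset.univ.filter fun q => ∃ r ∈ R, (r : Perm GolayPt) p = q
  have hmem : ∀ q, q ∈ Δ ↔ ∃ r ∈ R, (r : Perm GolayPt) p = q := fun q => by
    simp only [Δ, Finset.mem_filter, Finset.mem_univ, true_and]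
  have hinv : ∀ z ∈ R, ∀ q ∈ Δ, (z : Perm GolayPt) q ∈ Δ := by
    intro z hz q hq
    obtain ⟨r, hr, rfl⟩ := (hmem q).1 hq
    exact (hmem _).2 ⟨z * r, R.mul_mem hz hr, rfl⟩
  have h0 : p ∈ Δ := (hmem _).2 ⟨1, R.one_mem, rfl⟩
  have hpos : 0 < Δ.card := Finset.card_pos.2 ⟨_, h0⟩
  have hle : Δ.card ≤ 24 := by
    have := Finset.card_le_univ Δ
    rwa [H19.Cyc.card_pt] at this
  have h1 := card_21 hx21 (hinv x hx)
  have h2 := card_10 hy10 (hinv y hy)
  have h24 : Δ.card = 24 := by omega
  have h3 : Δ = Finset.univ := Finset.eq_univ_of_card _ (h24.trans H19.Cyc.card_pt.symm)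
  exact (hmem q).1 (h3 ▸ Finset.mem_univ q)

noncomputable def e21 : M24 := mk 609452581379389964312662400893066593 (by decide +kernel)
noncomputable def e10 : M24 := mk 265029068334931094912267725692984324 (by decide +kernel)

theorem o21 : orderOf e21 = 21 := orderOf_tab (isTab_mk _ _) (by decide +kernel)
theorem o10 : orderOf e10 = 10 := orderOf_tab (isTab_mk _ _) (by decide +kernel)

theorem isol_m24 {r : ℕ} (hr : r = 11 ∨ r = 23) : Isol M24 r := by
  intro p hp _
  refine not_order_m24 ?_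
  intro hc
  have h2 := hp.two_le
  simp only [List.mem_cons, List.not_mem_nil, or_false] at hc
  rcases hr with rfl | rfl <;> omega

/-- `M22` and `M23` have no elements of order 21; `M23` has none of order 10 -/
theorem no21_m23 {X : Type*} [Group X] (h : Spor.IsoM23 X) (x : X) : orderOf x ≠ 21 := by
  obtain ⟨e⟩ := h
  intro hx
  have h1 : orderOf (e x) = 21 := by rw [← hx]; exact orderOf_injective e.toMonoidHom e.injective x
  have h2 : orderOf (⟨(e x).1, (e x).2.1⟩ : M24) = 21 := by rw [Subgroup.orderOf_mk, Subgroup.orderOf_coe, h1]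
  have h3 := card_21 h2 (Δ := {none}) (by
    intro y hy
    rw [Finset.mem_singleton] at hy ⊢
    rw [hy]
    exact (e x).2.2)
  simp at h3

theorem no10_m23 {X : Type*} [Group X] (h : Spor.IsoM23 X) (x : X) : orderOf x ≠ 10 := by
  obtain ⟨e⟩ := h
  intro hx
  have h1 : orderOf (e x) = 10 := by rw [← hx]; exact orderOf_injective e.toMonoidHom e.injective x
  have h2 : orderOf (⟨(e x).1, (e x).2.1⟩ : M24) = 10 := by rw [Subgroup.orderOf_mk, Subgroup.orderOf_coe, h1]
  have h3 := card_10 h2 (Δ := {none}) (by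
    intro y hy
    rw [Finset.mem_singleton] at hy ⊢
    rw [hy]
    exact (e x).2.2)
  simp at h3

theorem no21_m22 {X : Type*} [Group X] (h : Spor.IsoM22 X) (x : X) : orderOf x ≠ 21 := by
  obtain ⟨e⟩ := h
  intro hx
  have h1 : orderOf (e x) = 21 := by rw [← hx]; exact orderOf_injective e.toMonoidHom e.injective x
  have h2 : orderOf (⟨(e x).1, (e x).2.1.1⟩ : M24) = 21 := by rw [Subgroup.orderOf_mk, Subgroup.orderOf_coe, h1]
  have h3 := card_21 h2 (Δ := {none}) (by
    intro y hy
    rw [Finset.mem_singleton] at hy ⊢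
    rw [hy]
    exact (e x).2.1.2)
  simp at h3

theorem noTwo_m24 (tab : OrderTable.{0}) (known : Known.{0}) {T : Type u} [Group T] (h : Spor.IsoM24 T) :
    NoTwo T := by
  obtain ⟨e⟩ := h
  refine NoTwo.congr ?_ e.symm
  have hfin : Finite M24 := Nat.finite_of_card_ne_zero (by rw [card_M24]; norm_num)
  have h1 : OInc M24 23 21 := oinc_of_chkI tab known (l := l24) [.m23]
    card_M24 (by norm_num) (isol_m24 (by norm_num)) (by decide +kernel) (by
      intro g hg X _ _ hX
      rw [List.mem_singleton] at hg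
      subst hg
      exact no21_m23 hX)
  have h2 : OInc M24 23 10 := oinc_of_chkI tab known (l := l24) [.m23]
    card_M24 (by norm_num) (isol_m24 (by norm_num)) (by decide +kernel) (by
      intro g hg X _ _ hX
      rw [List.mem_singleton] at hg
      subst hg
      exact no10_m23 hX)
  have h3 : OInc M24 11 21 := oinc_of_chkI tab known (l := l24) [.m22, .m23]
    card_M24 (by norm_num) (isol_m24 (by norm_num)) (by decide +kernel) (by
      intro g hg X _ _ hX
      simp only [List.mem_cons, List.not_mem_nil, or_false] at hg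
      rcases hg with rfl | rfl
      · exact no21_m22 hX
      · exact no21_m23 hX)
  refine noTwo_of_orders (a := 23) (b := 21) (c := 10)
    (exists_of_prime_dvd (by norm_num) (by rw [card_M24]; norm_num)) ⟨e21, o21⟩ ⟨e10, o10⟩ h1 ?_ h2
  intro R hR x hx y hy hx21 hy10
  refine no_trans35 tab known hR (m24_trans hx hy hx21 hy10) ?_ ?_ ?_ ?_
  · have := Subgroup.orderOf_dvd_natCard R hy
    rw [hy10] at this
    exact (by norm_num : (5 : ℕ) ∣ 10).trans this
  · have := Subgroup.orderOf_dvd_natCard R hx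
    rw [hx21] at this
    exact (by norm_num : (7 : ℕ) ∣ 21).trans this
  · intro h11
    obtain ⟨z, hz⟩ := exists_of_prime_dvd (T := R) (by norm_num) h11
    exact h3 R hR z.1 z.2 x hx (by rw [Subgroup.orderOf_coe, hz]) hx21
  · intro h23
    obtain ⟨z, hz⟩ := exists_of_prime_dvd (T := R) (by norm_num) h23
    exact h1 R hR z.1 z.2 x hx (by rw [Subgroup.orderOf_coe, hz]) hx21

end Cfsg.Agent.H257.Cov.Row
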